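import Groth.Agent.ThickBC.Basic
import Groth.Agent.FibreFlatSp.DeformProps
import Groth.Agent.AmpleLib.ThickMor
import Groth.Agent.Thicken.Hom

/-!
Properties of morphisms that are detected on base changes along thickenings.
-/

set_option autoImplicit false
universe u
open CategoryTheory CategoryTheory.Limits AlgebraicGeometry

namespace Groth.Agent.ThickBC

section Thickening
variable {X X' Y Y' : Scheme.{u}} {iX : X ⟶ X'} {iY : Y ⟶ Y'} {f : X ⟶ Y} {f' : X' ⟶ Y'}
  [IsClosedImmersion iY] [Surjective iY]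

theorem isThickening_left (hc : IsPullback iX f f' iY) : IsClosedImmersion iX ∧ Surjective iX :=
  ⟨MorphismProperty.of_isPullback hc.flip ‹_›, MorphismProperty.of_isPullback hc.flip ‹_›⟩

theorem formallyUnramified_iff [LocallyOfFiniteType f'] (hc : IsPullback iX f f' iY) :
    FormallyUnramified f ↔ FormallyUnramified f' :=
  ⟨fun h => FlatLocus.formallyUnramified_of_fibres f' (FibreFlatSp.fiberToSpec_of_thick hc @FormallyUnramified h),
    fun h => MorphismProperty.of_isPullback hc h⟩

theorem locallyQuasiFinite_iff [LocallyOfFiniteType f'] (hc : IsPullback iX f f' iY) :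
    LocallyQuasiFinite f ↔ LocallyQuasiFinite f' :=
  ⟨fun h => .of_fiberToSpecResidueField f' (FibreFlatSp.fiberToSpec_of_thick hc @LocallyQuasiFinite h),
    fun h => MorphismProperty.of_isPullback hc h⟩

theorem universallyInjective_iff (hc : IsPullback iX f f' iY) :
    UniversallyInjective f ↔ UniversallyInjective f' := by
  obtain ⟨_, _⟩ := isThickening_left hc
  exact AmpleLib.ThickMor.universallyInjective iX iY f f' hc.w

theorem mono_iff [LocallyOfFiniteType f'] (hc : IsPullback iX f f' iY) : Mono f ↔ Mono f' := by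
  refine ⟨fun h => ?_, fun h => ?_⟩
  · haveI : LocallyOfFiniteType f := MorphismProperty.of_isPullback hc ‹_›
    haveI : IsIso (pullback.diagonal f) := (pullback.isIso_diagonal_iff f).mpr h
    haveI : UniversallyInjective f' := (universallyInjective_iff hc).1 inferInstance
    haveI : FormallyUnramified f' := (formallyUnramified_iff hc).1 inferInstance
    haveI : Surjective (pullback.diagonal f') := (UniversallyInjective.iff_diagonal f').1 inferInstance
    exact (pullback.isIso_diagonal_iff f').mp ((isIso_iff_isOpenImmersion_and_surjective _).2 ⟨inferInstance, ‹_›⟩)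
  · exact (MorphismProperty.monomorphisms Scheme.{u}).of_isPullback hc (.infer_property f')

theorem isClosedImmersion_iff [LocallyOfFiniteType f'] (hc : IsPullback iX f f' iY) :
    IsClosedImmersion f ↔ IsClosedImmersion f' := by
  refine ⟨fun h => ?_, fun h => MorphismProperty.of_isPullback hc h⟩
  obtain ⟨_, _⟩ := isThickening_left hc
  haveI : IsIntegralHom f' := (Thicken.isIntegralHom_iff_of_thickening iX iY f f' hc.w).1 inferInstance
  haveI : Mono f' := (mono_iff hc).1 inferInstance
  haveI : IsFinite f' := (IsFinite.iff_isIntegralHom_and_locallyOfFiniteType _).2 ⟨‹_›, ‹_›⟩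
  exact (IsClosedImmersion.iff_isFinite_and_mono _).2 ⟨‹_›, ‹_›⟩

theorem isImmersion_iff [LocallyOfFiniteType f'] (hc : IsPullback iX f f' iY) :
    IsImmersion f ↔ IsImmersion f' := by
  refine ⟨fun h => ?_, fun h => MorphismProperty.of_isPullback hc h⟩
  let U : Y'.Opens := ⟨(iY '' f.coborderRange.1ᶜ)ᶜ,
    (iY.isClosedEmbedding.isClosedMap _ f.coborderRange.2.isClosed_compl).isOpen_compl⟩
  have hU : iY ⁻¹ᵁ U = f.coborderRange := by
    ext y
    show iY y ∈ (iY '' f.coborderRange.1ᶜ)ᶜ ↔ _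
    rw [Set.mem_compl_iff, iY.isClosedEmbedding.injective.mem_set_image, Set.mem_compl_iff, not_not]
    rfl
  have hfU : f' ⁻¹ᵁ U = ⊤ := by
    refine top_le_iff.1 fun x _ => ?_
    obtain ⟨_, _⟩ := isThickening_left hc
    obtain ⟨x₀, rfl⟩ := iX.surjective x
    show f' (iX x₀) ∈ U
    rw [← Scheme.Hom.comp_apply, hc.w, Scheme.Hom.comp_apply]
    exact hU.ge (subset_coborder ⟨x₀, rfl⟩)
  let l : X' ⟶ U := IsOpenImmersion.lift U.ι f' (by
    rw [Scheme.Opens.range_ι]
    rintro _ ⟨x, rfl⟩
    exact hfU.ge (Set.mem_univ x))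
  have hl : l ≫ U.ι = f' := IsOpenImmersion.lift_fac ..
  haveI : LocallyOfFiniteType l :=
    by
    haveI : LocallyOfFiniteType (l ≫ U.ι) := hl.symm ▸ ‹LocallyOfFiniteType f'›
    exact locallyOfFiniteType_of_comp l U.ι
  have hsq := isPullback_morphismRestrict iY U
  let m : X ⟶ iY ⁻¹ᵁ U := hsq.lift (iX ≫ l) f (by rw [Category.assoc, hl, hc.w])
  have hm₁ : m ≫ (iY ⁻¹ᵁ U).ι = f := hsq.lift_snd _ _ _
  have hm₂ : m ≫ (iY ∣_ U) = iX ≫ l := hsq.lift_fst _ _ _
  have hc' : IsPullback iX m l (iY ∣_ U) :=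
    IsPullback.of_bot (h₁₁ := iX) (by rw [hm₁, hl]; exact hc) hm₂.symm hsq
  haveI : IsClosedImmersion (iY ∣_ U) := IsZariskiLocalAtTarget.restrict ‹_› U
  haveI : Surjective (iY ∣_ U) := IsZariskiLocalAtTarget.restrict ‹_› U
  haveI : IsClosedImmersion m := by
    haveI : IsPreimmersion m := by
      haveI : IsPreimmersion (m ≫ (iY ⁻¹ᵁ U).ι) := hm₁.symm ▸ inferInstance
      exact IsPreimmersion.of_comp m (iY ⁻¹ᵁ U).ι
    refine .of_isPreimmersion m ?_
    have : Set.range m = (iY ⁻¹ᵁ U).ι ⁻¹' Set.range f := by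
      rw [← hm₁, Scheme.Hom.comp_base, TopCat.coe_comp, Set.range_comp,
        Set.preimage_image_eq _ (iY ⁻¹ᵁ U).ι.isOpenEmbedding.injective]
    rw [this]
    have hcl := isClosed_preimage_val_coborder (s := Set.range f)
    obtain ⟨C, hC, hCe⟩ := isClosed_induced_iff.1 hcl
    refine ⟨?_⟩
    have : (iY ⁻¹ᵁ U).ι ⁻¹' Set.range f = (iY ⁻¹ᵁ U).ι ⁻¹' C := by
      ext z
      exact ((Set.ext_iff.1 hCe) ⟨(iY ⁻¹ᵁ U).ι z, hU.le z.2⟩).symm
    rw [this]
    exact (hC.preimage (iY ⁻¹ᵁ U).ι.continuous).isOpen_compl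
  haveI : IsClosedImmersion l := (isClosedImmersion_iff hc').1 inferInstance
  rw [← hl]
  infer_instance

theorem smooth_iff [Flat f'] [LocallyOfFinitePresentation f'] (hc : IsPullback iX f f' iY) :
    Smooth f ↔ Smooth f' :=
  ⟨fun h => Smooth.of_smooth_fiberToSpecResidueField f' (FibreFlatSp.fiberToSpec_of_thick hc @Smooth h),
    fun h => MorphismProperty.of_isPullback hc h⟩

theorem etale_iff [Flat f'] [LocallyOfFinitePresentation f'] (hc : IsPullback iX f f' iY) :
    Etale f ↔ Etale f' := by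
  refine ⟨fun h => ?_, fun h => MorphismProperty.of_isPullback hc h⟩
  haveI : FormallyUnramified f' := (formallyUnramified_iff hc).1 inferInstance
  exact Etale.of_formallyUnramified_of_flat f'

theorem isOpenImmersion_iff [Flat f'] [LocallyOfFinitePresentation f'] (hc : IsPullback iX f f' iY) :
    IsOpenImmersion f ↔ IsOpenImmersion f' := by
  refine ⟨fun h => ?_, fun h => MorphismProperty.of_isPullback hc h⟩
  haveI : Mono f' := (mono_iff hc).1 inferInstance
  exact IsOpenImmersion.of_flat_of_mono f'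

theorem isIso_iff [Flat f'] [LocallyOfFinitePresentation f'] (hc : IsPullback iX f f' iY) :
    IsIso f ↔ IsIso f' := by
  refine ⟨fun h => ?_, fun h => (MorphismProperty.isomorphisms Scheme.{u}).of_isPullback hc (.infer_property f')⟩
  obtain ⟨_, _⟩ := isThickening_left hc
  haveI : IsOpenImmersion f' := (isOpenImmersion_iff hc).1 inferInstance
  haveI : Surjective (iX ≫ f') := by rw [hc.w]; infer_instance
  haveI : Surjective f' := Surjective.of_comp iX f'
  exact (isIso_iff_isOpenImmersion_and_surjective f').2 ⟨‹_›, ‹_›⟩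

end Thickening

section Deform
variable {X X' Y Y' S S' : Scheme.{u}} {iX : X ⟶ X'} {iY : Y ⟶ Y'} {iS : S ⟶ S'}
  {f : X ⟶ Y} {f' : X' ⟶ Y'} {g : Y ⟶ S} {g' : Y' ⟶ S'}

theorem isPullback_top (hcX : IsPullback iX (f ≫ g) (f' ≫ g') iS) (hcY : IsPullback iY g g' iS)
    (w : iX ≫ f' = f ≫ iY) : IsPullback iX f f' iY :=
  IsPullback.of_bot hcX w hcY

theorem isThickening_top (hS : MoreMor.IsThickening iS) (hcY : IsPullback iY g g' iS) :
    IsClosedImmersion iY ∧ Surjective iY :=
  haveI := hS.1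
  haveI := hS.2
  isThickening_left hcY

theorem flat_iff (hS : MoreMor.IsFiniteOrderThickening iS) (hcX : IsPullback iX (f ≫ g) (f' ≫ g') iS)
    (hcY : IsPullback iY g g' iS) (w : iX ≫ f' = f ≫ iY) [Flat (f' ≫ g')] : Flat f ↔ Flat f' :=
  ⟨fun h => of_ring (P := @Flat) (RingHom.Flat.stableUnderComposition.stableUnderCompositionWithLocalizationAway
      RingHom.Flat.holdsForLocalizationAway).left
      (fun φ ψ I hI hfl hQ => FibreFlatSp.flat_specMap_of_baseChange φ ψ I hI hfl hQ)
      iX iY iS f f' g g' hS hcX hcY w h,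
    fun h => MorphismProperty.of_isPullback (isPullback_top hcX hcY w) h⟩

theorem lfp_iff (hS : MoreMor.IsFiniteOrderThickening iS) (hcX : IsPullback iX (f ≫ g) (f' ≫ g') iS)
    (hcY : IsPullback iY g g' iS) (w : iX ≫ f' = f ≫ iY) [Flat (f' ≫ g')] :
    LocallyOfFinitePresentation f ↔ LocallyOfFinitePresentation f' :=
  ⟨fun h => of_ring (P := @LocallyOfFinitePresentation)
      (RingHom.finitePresentation_stableUnderComposition.stableUnderCompositionWithLocalizationAway
        RingHom.finitePresentation_holdsForLocalizationAway).left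
      (fun φ ψ I hI hfl hQ => FibreFlatSp.finitePresentation_of_quotient φ ψ I hI hfl hQ)
      iX iY iS f f' g g' hS hcX hcY w h,
    fun h => MorphismProperty.of_isPullback (isPullback_top hcX hcY w) h⟩

theorem flat_lfp_of_flat_lfp (hS : MoreMor.IsFiniteOrderThickening iS) (hcX : IsPullback iX (f ≫ g) (f' ≫ g') iS)
    (hcY : IsPullback iY g g' iS) (w : iX ≫ f' = f ≫ iY) [Flat (f' ≫ g')] [Flat f] [LocallyOfFinitePresentation f] :
    Flat f' ∧ LocallyOfFinitePresentation f' :=
  ⟨(flat_iff hS hcX hcY w).1 ‹_›, (lfp_iff hS hcX hcY w).1 ‹_›⟩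

end Deform

end Groth.Agent.ThickBC
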