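import Groth.Prelude.Def_MoreMor
import Groth.Agent.IdealStalkLib.Comap

/-!
Ring level reduction for base changes along finite order thickenings.
-/

set_option autoImplicit false
universe u
open CategoryTheory CategoryTheory.Limits AlgebraicGeometry

namespace Groth.Agent.ThickBC

theorem ker_of_isPullback {X X' S S' : Scheme.{u}} {iX : X ⟶ X'} {iS : S ⟶ S'} {f : X ⟶ S} {f' : X' ⟶ S'}
    [IsClosedImmersion iS] (hc : IsPullback iX f f' iS) : iX.ker = iS.ker.comap f' := by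
  rw [← Scheme.IdealSheafData.ker_fst_of_isClosedImmersion iS f', ← hc.isoPullback_hom_fst,
    Scheme.Hom.ker_comp_of_isIso]

/-- Reduction of a property of a morphism over a finite order thickening to rings. -/
theorem of_ring_aux {P : MorphismProperty Scheme.{u}} {Q : ∀ {R A : Type u} [CommRing R] [CommRing A], (R →+* A) → Prop}
    [HasRingHomProperty P Q] {F : ∀ {R A : Type u} [CommRing R] [CommRing A], (R →+* A) → Prop}
    (hQ : RingHom.StableUnderCompositionWithLocalizationAwaySource Q)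
    (hring : ∀ {R A C : Type u} [CommRing R] [CommRing A] [CommRing C] (φ : R →+* A) (ψ : A →+* C) (I : Ideal R),
      IsNilpotent I → F (ψ.comp φ) → Q (Ideal.quotientMap ((I.map φ).map ψ) ψ Ideal.le_comap_map) → Q ψ)
    {X X' Y Y' S S' : Scheme.{u}} (iX : X ⟶ X') (iY : Y ⟶ Y') (iS : S ⟶ S')
    (f : X ⟶ Y) (f' : X' ⟶ Y') (g : Y ⟶ S) (g' : Y' ⟶ S')
    (hS : MoreMor.IsFiniteOrderThickening iS) (hcX : IsPullback iX (f ≫ g) (f' ≫ g') iS) (hcY : IsPullback iY g g' iS)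
    (w : iX ≫ f' = f ≫ iY) (hF : ∀ (W : S'.affineOpens) (U : X'.affineOpens) (e : U.1 ≤ (f' ≫ g') ⁻¹ᵁ W.1),
      F ((f' ≫ g').appLE W U e).hom) (hf : P f) : P f' := by
  haveI : IsClosedImmersion iS := hS.1.1
  haveI : IsClosedImmersion iX := MorphismProperty.of_isPullback hcX.flip ‹_›
  haveI : IsClosedImmersion iY := MorphismProperty.of_isPullback hcY.flip ‹_›
  rw [HasRingHomProperty.iff_exists_appLE (P := P) hQ]
  intro x
  obtain ⟨_, ⟨W, hW, rfl⟩, hxW, -⟩ := S'.isBasis_affineOpens.exists_subset_of_mem_open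
    (Set.mem_univ ((f' ≫ g') x)) isOpen_univ
  obtain ⟨_, ⟨V, hV, rfl⟩, hxV, eV⟩ := Y'.isBasis_affineOpens.exists_subset_of_mem_open
    (show f' x ∈ g' ⁻¹ᵁ W from hxW) (g' ⁻¹ᵁ W).2
  obtain ⟨_, ⟨U, hU, rfl⟩, hxU, eU⟩ := X'.isBasis_affineOpens.exists_subset_of_mem_open
    (show x ∈ f' ⁻¹ᵁ V from hxV) (f' ⁻¹ᵁ V).2
  replace eV : V ≤ g' ⁻¹ᵁ W := eV
  replace eU : U ≤ f' ⁻¹ᵁ V := eU
  refine ⟨⟨V, hV⟩, ⟨U, hU⟩, hxU, eU, ?_⟩
  have eUW : U ≤ (f' ≫ g') ⁻¹ᵁ W := eU.trans (f'.preimage_mono eV)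
  let φ := (g'.appLE W V eV).hom
  let ψ := (f'.appLE V U eU).hom
  let I := iS.ker.ideal ⟨W, hW⟩
  have hI : IsNilpotent I := by
    obtain ⟨n, hn⟩ := hS.2
    exact ⟨n, by rw [show I ^ n = (iS.ker ^ n).ideal ⟨W, hW⟩ from rfl, hn]; rfl⟩
  have hψφ : ψ.comp φ = ((f' ≫ g').appLE W U eUW).hom := by
    rw [← Scheme.Hom.appLE_comp_appLE f' g' W V U eV eU]; rfl
  have hfl : F (ψ.comp φ) := hψφ ▸ hF ⟨W, hW⟩ ⟨U, hU⟩ eUW
  have kA : RingHom.ker (iY.app V).hom = I.map φ := by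
    rw [← Scheme.Hom.ker_apply iY ⟨V, hV⟩, ker_of_isPullback hcY]
    exact IdealStalkLib.comap_ideal _ _ hW hV eV
  have kC : RingHom.ker (iX.app U).hom = (I.map φ).map ψ := by
    rw [← Scheme.Hom.ker_apply iX ⟨U, hU⟩, ker_of_isPullback hcX, Ideal.map_map, hψφ]
    exact IdealStalkLib.comap_ideal _ _ hW hU eUW
  refine hring φ ψ I hI hfl ?_
  have e : iX ⁻¹ᵁ U ≤ f ⁻¹ᵁ (iY ⁻¹ᵁ V) := by
    rw [← Scheme.Hom.comp_preimage, ← w, Scheme.Hom.comp_preimage]
    exact iX.preimage_mono eU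
  have h₀ : Q (f.appLE (iY ⁻¹ᵁ V) (iX ⁻¹ᵁ U) e).hom :=
    HasRingHomProperty.appLE P f hf ⟨_, hV.preimage iY⟩ ⟨_, hU.preimage iX⟩ e
  let eA := (Ideal.quotEquivOfEq kA.symm).trans (RingHom.quotientKerEquivOfSurjective (iY.app_surjective V hV))
  let eC := (Ideal.quotEquivOfEq kC.symm).trans (RingHom.quotientKerEquivOfSurjective (iX.app_surjective U hU))
  have hsq : iY.app V ≫ f.appLE (iY ⁻¹ᵁ V) (iX ⁻¹ᵁ U) e = f'.appLE V U eU ≫ iX.app U := by
    rw [iY.app_eq_appLE, iX.app_eq_appLE, Scheme.Hom.appLE_comp_appLE, Scheme.Hom.appLE_comp_appLE]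
    simp only [w]
  have key : Ideal.quotientMap ((I.map φ).map ψ) ψ Ideal.le_comap_map =
      eC.symm.toRingHom.comp ((f.appLE (iY ⁻¹ᵁ V) (iX ⁻¹ᵁ U) e).hom.comp eA.toRingHom) := by
    refine Ideal.Quotient.ringHom_ext (RingHom.ext fun a => eC.injective ?_)
    show eC (Ideal.Quotient.mk _ (ψ a)) = eC (eC.symm ((f.appLE (iY ⁻¹ᵁ V) (iX ⁻¹ᵁ U) e) (eA (Ideal.Quotient.mk _ a))))
    rw [eC.apply_symm_apply]
    exact (congr($hsq a)).symm
  rw [key]
  exact (HasRingHomProperty.isLocal_ringHomProperty P (Q := Q)).respectsIso.left _ eC.symm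
    ((HasRingHomProperty.isLocal_ringHomProperty P (Q := Q)).respectsIso.right _ eA h₀)

/-- Reduction of a property of a morphism with flat source over a finite order thickening to rings. -/
theorem of_ring {P : MorphismProperty Scheme.{u}} {Q : ∀ {R A : Type u} [CommRing R] [CommRing A], (R →+* A) → Prop}
    [HasRingHomProperty P Q] (hQ : RingHom.StableUnderCompositionWithLocalizationAwaySource Q)
    (hring : ∀ {R A C : Type u} [CommRing R] [CommRing A] [CommRing C] (φ : R →+* A) (ψ : A →+* C) (I : Ideal R),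
      IsNilpotent I → (ψ.comp φ).Flat → Q (Ideal.quotientMap ((I.map φ).map ψ) ψ Ideal.le_comap_map) → Q ψ)
    {X X' Y Y' S S' : Scheme.{u}} (iX : X ⟶ X') (iY : Y ⟶ Y') (iS : S ⟶ S')
    (f : X ⟶ Y) (f' : X' ⟶ Y') (g : Y ⟶ S) (g' : Y' ⟶ S')
    (hS : MoreMor.IsFiniteOrderThickening iS) (hcX : IsPullback iX (f ≫ g) (f' ≫ g') iS) (hcY : IsPullback iY g g' iS)
    (w : iX ≫ f' = f ≫ iY) [Flat (f' ≫ g')] (hf : P f) : P f' :=
  of_ring_aux (F := RingHom.Flat) hQ hring iX iY iS f f' g g' hS hcX hcY w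
    (fun W U e => HasRingHomProperty.appLE @Flat (f' ≫ g') ‹_› W U e) hf

/-- Reduction of a property of a morphism to a base change along a finite order thickening of the target. -/
theorem of_ring_id {P : MorphismProperty Scheme.{u}} {Q : ∀ {R A : Type u} [CommRing R] [CommRing A], (R →+* A) → Prop}
    [HasRingHomProperty P Q] (hQ : RingHom.StableUnderCompositionWithLocalizationAwaySource Q)
    (hring : ∀ {A C : Type u} [CommRing A] [CommRing C] (ψ : A →+* C) (J : Ideal A), IsNilpotent J →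
      Q (Ideal.quotientMap (J.map ψ) ψ Ideal.le_comap_map) → Q ψ)
    {X X' S S' : Scheme.{u}} (iX : X ⟶ X') (iS : S ⟶ S') (f : X ⟶ S) (f' : X' ⟶ S')
    (hS : MoreMor.IsFiniteOrderThickening iS) (hc : IsPullback iX f f' iS) (hf : P f) : P f' :=
  of_ring_aux (F := fun _ => True) hQ
    (fun φ ψ I hI _ h => hring ψ (I.map φ)
      (by obtain ⟨n, hn⟩ := hI; exact ⟨n, by rw [← Ideal.map_pow, hn, Ideal.zero_eq_bot, Ideal.map_bot]; rfl⟩) h)
    iX iS iS f f' (𝟙 S) (𝟙 S') hS (by simpa using hc) (IsPullback.of_vert_isIso ⟨by simp⟩) hc.w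
    (fun _ _ _ => trivial) hf

end Groth.Agent.ThickBC
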