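import Groth.Agent.ThickBC.Props
import Groth.Agent.FlatLocus.FibreCrit
import Groth.Agent.FlatLocus.Scheme
import Groth.Agent.Thicken.Hom
import Groth.Agent.ASp.ThickFinType
import Groth.Prelude.Def_Mor2

/-!
Deformations of morphisms of schemes along thickenings of the base.
-/

set_option autoImplicit false
universe u
open CategoryTheory CategoryTheory.Limits AlgebraicGeometry

namespace Groth.Agent.ThickBC

theorem formallyUnramified_of_nilpotent {A C : Type u} [CommRing A] [CommRing C] (ψ : A →+* C) (J : Ideal A)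
    (hJ : IsNilpotent J) (h : (Ideal.quotientMap (J.map ψ) ψ Ideal.le_comap_map).FormallyUnramified) :
    ψ.FormallyUnramified := by
  algebraize [ψ]
  let J' := J.map (algebraMap A C)
  have h1 : (algebraMap A (C ⧸ J')).FormallyUnramified :=
    RingHom.FormallyUnramified.stableUnderComposition (Ideal.Quotient.mk J) _
      (RingHom.FormallyUnramified.of_surjective Ideal.Quotient.mk_surjective) h
  haveI : Algebra.FormallyUnramified A (C ⧸ J') := RingHom.formallyUnramified_algebraMap.mp h1
  have hker : ∀ x, KaehlerDifferential.kerCotangentToTensor A C (C ⧸ J') x = 0 := by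
    intro x
    obtain ⟨⟨j, hj⟩, rfl⟩ := Ideal.toCotangent_surjective _ x
    rw [KaehlerDifferential.kerCotangentToTensor_toCotangent]
    show (1 : C ⧸ J') ⊗ₜ[C] KaehlerDifferential.D A C j = 0
    replace hj : j ∈ J' := Ideal.Quotient.eq_zero_iff_mem.1 hj
    induction hj using Submodule.span_induction with
    | mem g hg =>
      obtain ⟨a, ha, rfl⟩ := hg
      rw [Derivation.map_algebraMap, TensorProduct.tmul_zero]
    | zero => rw [map_zero, TensorProduct.tmul_zero]
    | add a b _ _ ha hb => rw [map_add, TensorProduct.tmul_add, ha, hb, add_zero]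
    | smul r g hg ih =>
      have hg0 : algebraMap C (C ⧸ J') g = 0 := Ideal.Quotient.eq_zero_iff_mem.2 hg
      rw [smul_eq_mul, Derivation.leibniz, TensorProduct.tmul_add, TensorProduct.tmul_smul, ih, smul_zero, zero_add,
        ← TensorProduct.smul_tmul, Algebra.smul_def, mul_one, hg0, TensorProduct.zero_tmul]
  haveI : Subsingleton (TensorProduct C (C ⧸ J') (KaehlerDifferential A C)) := subsingleton_of_forall_eq 0 fun y => by
    obtain ⟨x, rfl⟩ := (KaehlerDifferential.exact_kerCotangentToTensor_mapBaseChange A C (C ⧸ J')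
      Ideal.Quotient.mk_surjective y).1 (Subsingleton.elim _ _)
    exact hker x
  have htop : J' • (⊤ : Submodule C (KaehlerDifferential A C)) = ⊤ := by
    rw [← Submodule.Quotient.subsingleton_iff]
    exact (TensorProduct.quotTensorEquivQuotSMul (KaehlerDifferential A C) J').symm.toEquiv.subsingleton
  have hpow : ∀ n : ℕ, J' ^ n • (⊤ : Submodule C (KaehlerDifferential A C)) = ⊤ := fun n => by
    induction n with
    | zero => rw [pow_zero, Ideal.one_eq_top, Submodule.top_smul]
    | succ n ih => rw [pow_succ, Submodule.mul_smul, htop, ih]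
  obtain ⟨n, hn⟩ := hJ
  refine ⟨subsingleton_of_forall_eq 0 fun y => ?_⟩
  have := (hpow n).ge (Submodule.mem_top (x := y))
  rwa [show J' ^ n = ⊥ by rw [← Ideal.map_pow, hn, Ideal.zero_eq_bot, Ideal.map_bot], Submodule.bot_smul,
    Submodule.mem_bot] at this

variable {X X' Y Y' S S' : Scheme.{u}} {iX : X ⟶ X'} {iY : Y ⟶ Y'} {iS : S ⟶ S'}
  {f : X ⟶ Y} {f' : X' ⟶ Y'} {g : Y ⟶ S} {g' : Y' ⟶ S'}

theorem formallyUnramified_of_finite {j : S ⟶ S'} {i : X ⟶ X'} {h : X ⟶ S} {h' : X' ⟶ S'}
    (hS : MoreMor.IsFiniteOrderThickening j) (hc : IsPullback i h h' j) [FormallyUnramified h] :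
    FormallyUnramified h' :=
  of_ring_id (P := @FormallyUnramified)
    (RingHom.FormallyUnramified.stableUnderComposition.stableUnderCompositionWithLocalizationAway
      RingHom.FormallyUnramified.holdsForLocalizationAway).left
    (fun ψ J hJ hQ => formallyUnramified_of_nilpotent ψ J hJ hQ) i j h h' hS hc ‹_›

theorem locallyOfFiniteType_of_finite {j : S ⟶ S'} {i : X ⟶ X'} {h : X ⟶ S} {h' : X' ⟶ S'}
    (hS : MoreMor.IsFiniteOrderThickening j) (hc : IsPullback i h h' j) [LocallyOfFiniteType h] :
    LocallyOfFiniteType h' :=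
  of_ring_id (P := @LocallyOfFiniteType)
    (RingHom.finiteType_stableUnderComposition.stableUnderCompositionWithLocalizationAway
      RingHom.finiteType_holdsForLocalizationAway).left
    (fun ψ J hJ hQ => ASp.finiteType_of_nilpotent ψ (J := J)
      (by obtain ⟨n, hn⟩ := hJ; exact ⟨n, by rw [← Ideal.map_pow, hn, Ideal.zero_eq_bot, Ideal.map_bot]; rfl⟩)
      (by
        rw [show (Ideal.Quotient.mk (J.map ψ)).comp ψ =
          (Ideal.quotientMap (J.map ψ) ψ Ideal.le_comap_map).comp (Ideal.Quotient.mk J) from RingHom.ext fun _ => rfl]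
        exact hQ.comp (RingHom.FiniteType.of_surjective _ Ideal.Quotient.mk_surjective)))
    i j h h' hS hc ‹_›

theorem flat_of_thick_fp (hS : MoreMor.IsThickening iS) (hcX : IsPullback iX (f ≫ g) (f' ≫ g') iS)
    (hcY : IsPullback iY g g' iS) (w : iX ≫ f' = f ≫ iY) [Flat (f' ≫ g')]
    [LocallyOfFinitePresentation (f' ≫ g')] [LocallyOfFiniteType g'] [Flat f] : Flat f' := by
  haveI := hS.1
  haveI := hS.2
  refine HasRingHomProperty.of_stalkMap (P := @Flat) RingHom.Flat.ofLocalizationPrime fun x => ?_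
  let h := f' ≫ g'
  obtain ⟨z, hz⟩ : x ∈ Set.range (h.fiberι (h x)) := by rw [Scheme.Hom.range_fiberι]; rfl
  refine hz ▸ (FlatLocus.flat_stalkMap_of_fibre f' g' (h x) z (Flat.stalkMap _ _) ?_).2
  have hfm : Flat (MoreMor.fiberMap f' g' (h x)) := by
    haveI : IsClosedImmersion (pullback.snd iS (S'.fromSpecResidueField (h x))) :=
      MorphismProperty.pullback_snd _ _ ‹_›
    haveI : Surjective (pullback.snd iS (S'.fromSpecResidueField (h x))) := MorphismProperty.pullback_snd _ _ ‹_›
    haveI : IsIso (pullback.snd iS (S'.fromSpecResidueField (h x))) := isIso_of_isClosedImmersion_of_surjective _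
    let σ := inv (pullback.snd iS (S'.fromSpecResidueField (h x))) ≫ pullback.fst iS (S'.fromSpecResidueField (h x))
    have hσ : σ ≫ iS = S'.fromSpecResidueField (h x) := by
      simp only [σ, Category.assoc, pullback.condition, IsIso.inv_hom_id_assoc]
    let j := hcY.lift (g'.fiberι (h x)) (g'.fiberToSpecResidueField (h x) ≫ σ) (by
      rw [Category.assoc, hσ]; exact g'.fiber_fac (h x))
    have hj : j ≫ iY = g'.fiberι (h x) := hcY.lift_fst _ _ _
    have h1 := (IsPullback.of_hasPullback f j).paste_horiz (isPullback_top hcX hcY w)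
    rw [hj] at h1
    have h2 : IsPullback (h.fiberι (h x)) (MoreMor.fiberMap f' g' (h x)) f' (g'.fiberι (h x)) :=
      IsPullback.of_bot (h₃₁ := S'.fromSpecResidueField (h x)) (v₂₁ := g'.fiberToSpecResidueField (h x)) (v₂₂ := g')
        (by
          rw [show MoreMor.fiberMap f' g' (h x) ≫ g'.fiberToSpecResidueField (h x) =
            h.fiberToSpecResidueField (h x) from pullback.lift_snd _ _ _]
          exact IsPullback.of_hasPullback _ _)
        (pullback.lift_fst _ _ _).symm (IsPullback.of_hasPullback _ _)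
    rw [← h2.isoIsPullback_hom_snd _ _ h1]
    exact MorphismProperty.comp_mem _ _ _ inferInstance (MorphismProperty.pullback_snd _ _ ‹Flat f›)
  exact Flat.stalkMap (MoreMor.fiberMap f' g' (h x)) z

theorem isFinLocFreeOfDeg_iff (d : ℕ) (hS : MoreMor.IsFiniteOrderThickening iS)
    (hcX : IsPullback iX (f ≫ g) (f' ≫ g') iS) (hcY : IsPullback iY g g' iS) (w : iX ≫ f' = f ≫ iY)
    [Flat (f' ≫ g')] : Mor2.IsFinLocFreeOfDeg d f ↔ Mor2.IsFinLocFreeOfDeg d f' := by
  have hc := isPullback_top hcX hcY w
  obtain ⟨_, _⟩ := isThickening_top hS.1 hcY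
  obtain ⟨_, _⟩ := isThickening_left hc
  constructor
  · rintro ⟨⟨_, _, _⟩, hd⟩
    haveI : Flat f' := (flat_iff hS hcX hcY w).1 inferInstance
    haveI : LocallyOfFinitePresentation f' := (lfp_iff hS hcX hcY w).1 inferInstance
    haveI : IsIntegralHom f' := (Thicken.isIntegralHom_iff_of_thickening iX iY f f' w).1 inferInstance
    haveI : IsFinite f' := (IsFinite.iff_isIntegralHom_and_locallyOfFiniteType _).2 ⟨‹_›, inferInstance⟩
    refine ⟨⟨‹_›, ‹_›, ‹_›⟩, fun y' => ?_⟩
    obtain ⟨y, rfl⟩ := iY.surjective y'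
    rw [← hd y]
    exact (Scheme.Hom.finrank_of_isPullback _ _ _ _ hc y).symm
  · rintro ⟨⟨_, _, _⟩, hd⟩
    refine ⟨⟨MorphismProperty.of_isPullback hc ‹_›, MorphismProperty.of_isPullback hc ‹_›,
      MorphismProperty.of_isPullback hc ‹_›⟩, fun y => ?_⟩
    rw [← hd (iY y)]
    exact Scheme.Hom.finrank_of_isPullback _ _ _ _ hc y

end Groth.Agent.ThickBC
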