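import Groth.Agent.ThickBC.Props

/-!
Monomorphisms are detected along finite order thickenings.
-/

set_option autoImplicit false
universe u
open CategoryTheory CategoryTheory.Limits AlgebraicGeometry

namespace Groth.Agent.ThickBC

theorem injective_of_split {R P C : Type u} [CommRing R] [CommRing P] [CommRing C] (α : R →+* P) (π : P →+* C)
    (s : C →+* P) (hs : ∀ c, π (s c) = c) (hα : ∀ r, s (π (α r)) = α r) (I : Ideal R) (hI : IsNilpotent I)
    (hker : RingHom.ker π ≤ I.map α) : Function.Injective π := by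
  rw [injective_iff_map_eq_zero]
  intro z hz
  suffices h : ∀ n : ℕ, ∀ z ∈ RingHom.ker π, z ∈ (I ^ n).map α by
    obtain ⟨n, hn⟩ := hI
    have := h n z hz
    rwa [hn, Ideal.zero_eq_bot, Ideal.map_bot, Ideal.mem_bot] at this
  intro n
  induction n with
  | zero => exact fun z _ => by rw [pow_zero, Ideal.one_eq_top, Ideal.map_top]; trivial
  | succ n ih =>
    have key : ∀ w ∈ I.map α, w - s (π w) ∈ (I ^ (n + 1)).map α ∧ True := by
      intro w hw
      induction hw using Submodule.span_induction with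
      | mem g hg =>
        obtain ⟨r, -, rfl⟩ := hg
        rw [hα, sub_self]
        exact ⟨zero_mem _, trivial⟩
      | zero => exact ⟨by simp, trivial⟩
      | add a b _ _ ha hb =>
        refine ⟨?_, trivial⟩
        rw [map_add, map_add, show a + b - (s (π a) + s (π b)) = (a - s (π a)) + (b - s (π b)) by ring]
        exact add_mem ha.1 hb.1
      | smul q g hg ha =>
        refine ⟨?_, trivial⟩
        rw [smul_eq_mul, map_mul, map_mul,
          show q * g - s (π q) * s (π g) = (q - s (π q)) * g + s (π q) * (g - s (π g)) by ring]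
        refine add_mem ?_ (Ideal.mul_mem_left _ _ ha.1)
        rw [pow_succ, Ideal.map_mul]
        exact Ideal.mul_mem_mul (ih _ (by rw [RingHom.mem_ker, map_sub, hs, sub_self])) hg
    intro z hz
    have := (key z (hker hz)).1
    rwa [RingHom.mem_ker.1 hz, map_zero, sub_zero] at this

theorem mono_of_finite {X X' S S' : Scheme.{u}} {iX : X ⟶ X'} {iS : S ⟶ S'} {f : X ⟶ S} {f' : X' ⟶ S'}
    (hS : MoreMor.IsFiniteOrderThickening iS) (hc : IsPullback iX f f' iS) [Mono f] : Mono f' := by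
  haveI := hS.1.1
  haveI := hS.1.2
  haveI : UniversallyInjective f' := (universallyInjective_iff hc).1 inferInstance
  let Δ := pullback.diagonal f'
  let p := pullback.fst f' f'
  haveI : Surjective Δ := (UniversallyInjective.iff_diagonal f').1 inferInstance
  haveI : IsClosedImmersion Δ := .of_isPreimmersion Δ (by rw [Set.range_eq_univ.2 Δ.surjective]; exact isClosed_univ)
  let i := pullback.fst (p ≫ f') iS
  have hk : Δ.ker ≤ i.ker := by
    have h0 : i ≫ pullback.fst f' f' = i ≫ pullback.snd f' f' := by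
      let l₁ := hc.lift (i ≫ pullback.fst f' f') (pullback.snd (p ≫ f') iS) (by rw [Category.assoc]; exact pullback.condition)
      let l₂ := hc.lift (i ≫ pullback.snd f' f') (pullback.snd (p ≫ f') iS)
        (by rw [Category.assoc, ← pullback.condition (f := f')]; exact pullback.condition)
      have : l₁ = l₂ := by rw [← cancel_mono f, hc.lift_snd, hc.lift_snd]
      calc i ≫ pullback.fst f' f' = l₁ ≫ iX := (hc.lift_fst _ _ _).symm
        _ = l₂ ≫ iX := by rw [this]
        _ = _ := hc.lift_fst _ _ _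
    have : i = (i ≫ p) ≫ Δ := pullback.hom_ext
      (by rw [Category.assoc, Category.assoc, pullback.diagonal_fst, Category.comp_id])
      (by rw [Category.assoc, Category.assoc, pullback.diagonal_snd, Category.comp_id]; exact h0.symm)
    rw [this]
    exact Scheme.Hom.le_ker_comp _ _
  suffices hbot : Δ.ker = ⊥ from
    (pullback.isIso_diagonal_iff f').mp (IsClosedImmersion.isIso_iff_ker_eq_bot.2 hbot)
  refine Scheme.IdealSheafData.ext_of_iSup_eq_top (ι := {Q : (pullback f' f' : Scheme.{u}).affineOpens //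
      ∃ W : S'.affineOpens, Q.1 ≤ (p ≫ f') ⁻¹ᵁ W.1}) (fun Q => Q.1) ?_ ?_
  · refine top_le_iff.1 fun z _ => ?_
    obtain ⟨_, ⟨W, hW, rfl⟩, hzW, -⟩ := S'.isBasis_affineOpens.exists_subset_of_mem_open
      (Set.mem_univ ((p ≫ f') z)) isOpen_univ
    obtain ⟨_, ⟨Q, hQ, rfl⟩, hzQ, eQ⟩ := (pullback f' f' : Scheme.{u}).isBasis_affineOpens.exists_subset_of_mem_open
      (show z ∈ (p ≫ f') ⁻¹ᵁ W from hzW) ((p ≫ f') ⁻¹ᵁ W).2
    exact TopologicalSpace.Opens.mem_iSup.2 ⟨⟨⟨Q, hQ⟩, ⟨⟨W, hW⟩, eQ⟩⟩, hzQ⟩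
  · rintro ⟨⟨Q, hQ⟩, ⟨W, hW⟩, eW⟩
    show Δ.ker.ideal ⟨Q, hQ⟩ = ⊥
    have hU : Q ≤ p ⁻¹ᵁ (Δ ⁻¹ᵁ Q) := fun z hz => by
      obtain ⟨x, rfl⟩ := Δ.surjective z
      show Δ (p (Δ x)) ∈ Q
      rw [← Scheme.Hom.comp_apply Δ p, pullback.diagonal_fst]
      exact hz
    have happ : ∀ (m : X' ⟶ X') (_ : m = 𝟙 X') (V : X'.Opens) (e : V ≤ m ⁻¹ᵁ V), m.appLE V V e = 𝟙 _ := by
      rintro m rfl V e
      exact (Category.id_comp _).trans (X'.presheaf.map_id _)
    have hs : p.appLE (Δ ⁻¹ᵁ Q) Q hU ≫ Δ.app Q = 𝟙 _ := by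
      rw [Δ.app_eq_appLE, Scheme.Hom.appLE_comp_appLE]
      exact happ _ (pullback.diagonal_fst f') _ _
    have hW' : Δ ⁻¹ᵁ Q ≤ f' ⁻¹ᵁ W := fun x hx => by
      have h1 : (p ≫ f') (Δ x) ∈ W := eW (show Δ x ∈ Q from hx)
      rw [show (p ≫ f') (Δ x) = f' x from by rw [← Scheme.Hom.comp_apply, pullback.diagonal_fst_assoc]] at h1
      exact h1
    let α := ((p ≫ f').appLE W Q eW).hom
    have hα : (p ≫ f').appLE W Q eW ≫ Δ.app Q ≫ p.appLE (Δ ⁻¹ᵁ Q) Q hU = (p ≫ f').appLE W Q eW := by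
      rw [← Scheme.Hom.appLE_comp_appLE p f' W (Δ ⁻¹ᵁ Q) Q hW' hU, Category.assoc, reassoc_of% hs]
    have hI : IsNilpotent (iS.ker.ideal ⟨W, hW⟩) := by
      obtain ⟨n, hn⟩ := hS.2
      exact ⟨n, by rw [show _ ^ n = (iS.ker ^ n).ideal ⟨W, hW⟩ from rfl, hn]; rfl⟩
    have hinj := injective_of_split α (Δ.app Q).hom (p.appLE (Δ ⁻¹ᵁ Q) Q hU).hom
      (fun c => congr($hs c)) (fun r => congr($hα r)) _ hI (by
        rw [← Scheme.Hom.ker_apply Δ ⟨Q, hQ⟩, ← IdealStalkLib.comap_ideal iS.ker (p ≫ f') hW hQ eW,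
          ← Scheme.IdealSheafData.ker_fst_of_isClosedImmersion]
        exact hk ⟨Q, hQ⟩)
    rw [Scheme.Hom.ker_apply, RingHom.injective_iff_ker_eq_bot _ |>.1 hinj]

end Groth.Agent.ThickBC
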